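import Cfsg.Agent.Lib.JankoOne.SimpleData
import Mathlib.GroupTheory.Sylow
import Mathlib.GroupTheory.Subgroup.Simple

/-!
The first Janko group has order 175560 and is simple: the cosets give the upper bound, elements of
orders 7, 11, 15, 19 and a subgroup of order 8 the lower one; every non-trivial normal subgroup contains
one of the representatives of elements of prime order, whose conjugates give both generators.
-/

set_option autoImplicit false

namespace Cfsg.Agent.Lib.JankoOne

theorem wordG_append : ∀ v w : List Bool, wordG (v ++ w) = wordG v * wordG w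
  | [], w => (one_mul _).symm
  | b :: v, w => by rw [List.cons_append, wordG, wordG, wordG_append v w, mul_assoc]

theorem wordG_pow (w : List Bool) : ∀ k : ℕ, wordG (List.replicate k w).flatten = wordG w ^ k
  | 0 => rfl
  | k + 1 => by rw [List.replicate_succ, List.flatten_cons, wordG_append, wordG_pow w k, pow_succ']

/-- The element of a word. -/
def wordJ (w : List Bool) : ↥Cfsg.Spor.J1 := ⟨wordG w, wordG_mem w⟩

theorem wordJ_append (v w : List Bool) : wordJ (v ++ w) = wordJ v * wordJ w :=
  Subtype.ext (wordG_append v w)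

theorem wordJ_eq {v w : List Bool} (h : Nat.beq (wordC v) (wordC w) = true) : wordJ v = wordJ w := by
  refine Subtype.ext (encG_injective ?_)
  show encG (wordG v) = encG (wordG w)
  rw [encG_wordG, encG_wordG, Nat.eq_of_beq_eq_true h]

theorem wordJ_nil : wordJ [] = 1 := rfl

theorem card_le : Nat.card ↥Cfsg.Spor.J1 ≤ 175560 := by
  classical
  have hex : ∀ g : ↥Cfsg.Spor.J1, ∃ q : Fin 266 × Fin 660,
      encG g.1 = mulC (repList.get q.1) (subList.get q.2) := by
    intro g
    obtain ⟨i, hi, r, h, hr, ⟨k, hk, hh⟩, he⟩ := inCosets_of_mem g.2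
    refine ⟨(⟨i, hi⟩, ⟨k, hk⟩), ?_⟩
    show encG g.1 = mulC (repList.get i) (subList.get k)
    rw [← hr, ← hh, mulC_encG, he]
  choose f hf using hex
  have hinj : Function.Injective f := fun g g' h =>
    Subtype.ext (encG_injective (by rw [hf g, hf g', h]))
  have := Nat.card_le_card_of_injective f hinj
  simpa [Nat.card_eq_fintype_card] using this

/-- Test whether a power of a word is trivial. -/
noncomputable def powTrivW (w : List Bool) (k : ℕ) : Bool :=
  Nat.beq (wordC (List.replicate k w).flatten) oneC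

theorem orderOf_wordJ_prime {w : List Bool} {p : ℕ} (hp : p.Prime) (h : powTrivW w p = true)
    (h1 : Nat.beq (wordC w) oneC = false) : orderOf (wordJ w) = p := by
  have := Fact.mk hp
  refine orderOf_eq_prime (Subtype.ext (encG_injective ?_)) fun he => ?_
  · show encG (wordG w ^ p) = encG 1
    rw [← wordG_pow, encG_wordG, encG_one, Nat.eq_of_beq_eq_true h]
  · have h2 := congrArg (fun g : ↥Cfsg.Spor.J1 => encG g.1) he
    change encG (wordG w) = encG 1 at h2
    rw [encG_wordG, encG_one] at h2
    rw [h2, Nat.beq_refl] at h1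
    exact Bool.noConfusion h1

theorem order_three : orderOf (wordJ repWord0) = 3 :=
  orderOf_wordJ_prime Nat.prime_three (by decide +kernel) (by decide +kernel)

theorem order_five : orderOf (wordJ repWord1) = 5 :=
  orderOf_wordJ_prime Nat.prime_five (by decide +kernel) (by decide +kernel)

theorem order_seven : orderOf (wordJ repWord2) = 7 :=
  orderOf_wordJ_prime (by norm_num) (by decide +kernel) (by decide +kernel)

theorem order_eleven : orderOf (wordJ repWord3) = 11 :=
  orderOf_wordJ_prime (by norm_num) (by decide +kernel) (by decide +kernel)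

theorem order_nineteen : orderOf (wordJ repWord4) = 19 :=
  orderOf_wordJ_prime (by norm_num) (by decide +kernel) (by decide +kernel)

/-- The word of an element of the subgroup of order eight. -/
def twoWord (i : Fin 8) : List Bool := elemTwoWords.getD i.val []

theorem two_closed : ∀ i j : Fin 8, ∃ k : Fin 8,
    Nat.beq (wordC (twoWord i ++ twoWord j)) (wordC (twoWord k)) = true := by decide +kernel

theorem two_distinct : ∀ i j : Fin 8, Nat.beq (wordC (twoWord i)) (wordC (twoWord j)) = true → i = j := by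
  decide +kernel

theorem two_zero : Nat.beq (wordC (twoWord 0)) (wordC []) = true := by decide +kernel

theorem two_inv : ∀ i : Fin 8, Nat.beq (wordC (twoWord i ++ twoWord i)) (wordC []) = true := by decide +kernel

/-- The subgroup of order eight. -/
def twoSub : Subgroup ↥Cfsg.Spor.J1 where
  carrier := Set.range fun i : Fin 8 => wordJ (twoWord i)
  one_mem' := ⟨0, wordJ_eq two_zero⟩
  mul_mem' := by
    rintro _ _ ⟨i, rfl⟩ ⟨j, rfl⟩
    obtain ⟨k, hk⟩ := two_closed i j
    exact ⟨k, by show wordJ (twoWord k) = wordJ (twoWord i) * wordJ (twoWord j); rw [← wordJ_append, wordJ_eq hk]⟩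
  inv_mem' := by
    rintro _ ⟨i, rfl⟩
    exact ⟨i, (inv_eq_of_mul_eq_one_left (by rw [← wordJ_append, wordJ_eq (two_inv i)]; rfl)).symm⟩

theorem card_twoSub : Nat.card twoSub = 8 := by
  have hinj : Function.Injective fun i : Fin 8 => wordJ (twoWord i) := by
    intro i j h
    apply two_distinct
    have h2 := congrArg (fun g : ↥Cfsg.Spor.J1 => encG g.1) h
    change encG (wordG (twoWord i)) = encG (wordG (twoWord j)) at h2
    rw [encG_wordG, encG_wordG] at h2
    rw [h2, Nat.beq_refl]
  exact (Nat.card_range_of_injective hinj).trans (Nat.card_eq_fintype_card.trans (Fintype.card_fin 8))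

/-- The first Janko group has order 175560. -/
theorem card_janko : Nat.card ↥Cfsg.Spor.J1 = 175560 := by
  have h8 : 8 ∣ Nat.card ↥Cfsg.Spor.J1 := card_twoSub ▸ twoSub.card_subgroup_dvd_card
  have h3 := order_three ▸ orderOf_dvd_natCard (wordJ repWord0)
  have h5 := order_five ▸ orderOf_dvd_natCard (wordJ repWord1)
  have h7 := order_seven ▸ orderOf_dvd_natCard (wordJ repWord2)
  have h11 := order_eleven ▸ orderOf_dvd_natCard (wordJ repWord3)
  have h19 := order_nineteen ▸ orderOf_dvd_natCard (wordJ repWord4)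
  have hd : 175560 ∣ Nat.card ↥Cfsg.Spor.J1 := by
    rw [show (175560 : ℕ) = 8 * 3 * 5 * 7 * 11 * 19 by norm_num]
    refine Nat.Coprime.mul_dvd_of_dvd_of_dvd (by norm_num) ?_ h19
    refine Nat.Coprime.mul_dvd_of_dvd_of_dvd (by norm_num) ?_ h11
    refine Nat.Coprime.mul_dvd_of_dvd_of_dvd (by norm_num) ?_ h7
    exact Nat.Coprime.mul_dvd_of_dvd_of_dvd (by norm_num) (Nat.Coprime.mul_dvd_of_dvd_of_dvd (by norm_num) h8 h3) h5
  exact le_antisymm card_le (Nat.le_of_dvd Nat.card_pos hd)

/-- The conjugates give the target. -/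
noncomputable def conjCheck (x : List Bool) (c : ConjPairCert) (target : List Bool) : Bool :=
  Nat.beq (wordC (c.u ++ c.u')) (wordC []) && Nat.beq (wordC (c.v ++ c.v')) (wordC []) &&
    Nat.beq (wordC ((c.u ++ x ++ c.u') ++ (c.v ++ x ++ c.v'))) (wordC target)

theorem mem_of_conjCheck {N : Subgroup ↥Cfsg.Spor.J1} (hN : N.Normal) {x target : List Bool} {c : ConjPairCert}
    (hx : wordJ x ∈ N) (h : conjCheck x c target = true) : wordJ target ∈ N := by
  simp only [conjCheck, Bool.and_eq_true] at h
  obtain ⟨⟨hu, hv⟩, ht⟩ := h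
  have key : ∀ u u' : List Bool, Nat.beq (wordC (u ++ u')) (wordC []) = true → wordJ (u ++ x ++ u') ∈ N := by
    intro u u' h
    have : wordJ u' = (wordJ u)⁻¹ := eq_inv_of_mul_eq_one_right (by rw [← wordJ_append, wordJ_eq h, wordJ_nil])
    rw [wordJ_append, wordJ_append, this]
    exact hN.conj_mem _ hx _
  rw [← wordJ_eq ht, wordJ_append]
  exact N.mul_mem (key _ _ hu) (key _ _ hv)

theorem cert0 : (conjCheck repWord0 certGenX0 [false] && conjCheck repWord0 certGenY0 [true]) = true := by decide +kernel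
theorem cert1 : (conjCheck repWord1 certGenX1 [false] && conjCheck repWord1 certGenY1 [true]) = true := by decide +kernel
theorem cert2 : (conjCheck repWord2 certGenX2 [false] && conjCheck repWord2 certGenY2 [true]) = true := by decide +kernel
theorem cert3 : (conjCheck repWord3 certGenX3 [false] && conjCheck repWord3 certGenY3 [true]) = true := by decide +kernel
theorem cert4 : (conjCheck repWord4 certGenX4 [false] && conjCheck repWord4 certGenY4 [true]) = true := by decide +kernel
theorem cert5 : (conjCheck (twoWord 1) certGenX5 [false] && conjCheck (twoWord 1) certGenY5 [true]) = true := by decide +kernel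
theorem cert6 : (conjCheck (twoWord 2) certGenX6 [false] && conjCheck (twoWord 2) certGenY6 [true]) = true := by decide +kernel
theorem cert7 : (conjCheck (twoWord 3) certGenX7 [false] && conjCheck (twoWord 3) certGenY7 [true]) = true := by decide +kernel
theorem cert8 : (conjCheck (twoWord 4) certGenX8 [false] && conjCheck (twoWord 4) certGenY8 [true]) = true := by decide +kernel
theorem cert9 : (conjCheck (twoWord 5) certGenX9 [false] && conjCheck (twoWord 5) certGenY9 [true]) = true := by decide +kernel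
theorem cert10 : (conjCheck (twoWord 6) certGenX10 [false] && conjCheck (twoWord 6) certGenY10 [true]) = true := by decide +kernel
theorem cert11 : (conjCheck (twoWord 7) certGenX11 [false] && conjCheck (twoWord 7) certGenY11 [true]) = true := by decide +kernel

theorem eq_top_of_cert {N : Subgroup ↥Cfsg.Spor.J1} (hN : N.Normal) {x : List Bool} {cx cy : ConjPairCert}
    (hx : wordJ x ∈ N) (h : (conjCheck x cx [false] && conjCheck x cy [true]) = true) : N = ⊤ := by
  rw [Bool.and_eq_true] at h
  have hle : Cfsg.Spor.J1 ≤ N.map Cfsg.Spor.J1.subtype := by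
    refine (Subgroup.closure_le _).2 ?_
    rintro g (rfl | rfl)
    · exact ⟨_, mem_of_conjCheck hN hx h.1, mul_one _⟩
    · exact ⟨_, mem_of_conjCheck hN hx h.2, mul_one _⟩
  rw [eq_top_iff]
  intro g _
  obtain ⟨n, hn, he⟩ := hle g.2
  exact Subtype.ext he ▸ hn

theorem pow_eq_card_sylow {p : ℕ} [Fact p.Prime] (K : Subgroup ↥Cfsg.Spor.J1) {k : ℕ}
    (hK : Nat.card K = p ^ k) (hfac : (175560 : ℕ).factorization p = k) (P : Sylow p ↥Cfsg.Spor.J1) :
    ∃ g : ↥Cfsg.Spor.J1, ∀ y ∈ (P : Subgroup ↥Cfsg.Spor.J1), g * y * g⁻¹ ∈ K := by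
  obtain ⟨Q, hQ⟩ := (IsPGroup.of_card hK).exists_le_sylow
  have hQK : (Q : Subgroup ↥Cfsg.Spor.J1) = K :=
    (Subgroup.eq_of_le_of_card_ge hQ (by rw [hK, Q.card_eq_multiplicity, card_janko, hfac])).symm
  obtain ⟨g, hg⟩ := MulAction.exists_smul_eq (↥Cfsg.Spor.J1) P Q
  refine ⟨g, fun y hy => ?_⟩
  rw [← hQK, ← hg, Sylow.coe_subgroup_smul, Subgroup.mem_pointwise_smul_iff_inv_smul_mem]
  simpa [MulAut.smul_def, mul_assoc] using hy

theorem isSimpleGroup_janko : IsSimpleGroup ↥Cfsg.Spor.J1 := by
  have : Nontrivial ↥Cfsg.Spor.J1 := by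
    rw [← Finite.one_lt_card_iff_nontrivial, card_janko]; norm_num
  refine ⟨fun N hN => ?_⟩
  by_contra hne
  push Not at hne
  obtain ⟨hbot, htop⟩ := hne
  apply htop
  obtain ⟨p, hp, hpd⟩ := Nat.exists_prime_and_dvd (n := Nat.card N) fun h => hbot (Subgroup.card_eq_one.1 h)
  have := Fact.mk hp
  obtain ⟨x, hx⟩ := exists_prime_orderOf_dvd_card' p hpd
  have hxo : orderOf (x : ↥Cfsg.Spor.J1) = p := by rw [Subgroup.orderOf_coe, hx]
  have hpJ : p ∣ 175560 := card_janko ▸ hxo ▸ orderOf_dvd_natCard _
  obtain ⟨P, hP⟩ := (IsPGroup.of_card (show Nat.card (Subgroup.zpowers (x : ↥Cfsg.Spor.J1)) = p ^ 1 by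
    rw [Nat.card_zpowers, hxo, pow_one])).exists_le_sylow
  have hxP : (x : ↥Cfsg.Spor.J1) ∈ (P : Subgroup ↥Cfsg.Spor.J1) := hP (Subgroup.mem_zpowers _)
  have odd : ∀ (w : List Bool) (cx cy : ConjPairCert), orderOf (wordJ w) = p →
      (175560 : ℕ).factorization p = 1 → (conjCheck w cx [false] && conjCheck w cy [true]) = true → N = ⊤ := by
    intro w cx cy hw hfac hcert
    obtain ⟨g, hg⟩ := pow_eq_card_sylow (Subgroup.zpowers (wordJ w)) (k := 1)
      (by rw [Nat.card_zpowers, hw, pow_one]) hfac P
    have hy := hg _ hxP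
    have hyo : orderOf (g * (x : ↥Cfsg.Spor.J1) * g⁻¹) = p := by
      rw [show g * (x : ↥Cfsg.Spor.J1) * g⁻¹ = MulAut.conj g x from rfl, MulEquiv.orderOf_eq, hxo]
    have hz : Subgroup.zpowers (g * (x : ↥Cfsg.Spor.J1) * g⁻¹) = Subgroup.zpowers (wordJ w) :=
      Subgroup.eq_of_le_of_card_ge (Subgroup.zpowers_le.2 hy) (by rw [Nat.card_zpowers, Nat.card_zpowers, hyo, hw])
    refine eq_top_of_cert hN ?_ hcert
    have : wordJ w ∈ Subgroup.zpowers (g * (x : ↥Cfsg.Spor.J1) * g⁻¹) := hz ▸ Subgroup.mem_zpowers _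
    exact Subgroup.zpowers_le.2 (hN.conj_mem _ x.2 g) this
  have hfacs : ∀ q : ℕ, q.Prime → ∀ k : ℕ, q ^ k ∣ 175560 → ¬ q ^ (k + 1) ∣ 175560 →
      (175560 : ℕ).factorization q = k := by
    intro q hq k h1 h2
    rw [hq.pow_dvd_iff_le_factorization (by norm_num)] at h1 h2
    omega
  have hmem : p = 2 ∨ p = 3 ∨ p = 5 ∨ p = 7 ∨ p = 11 ∨ p = 19 := by
    rw [show (175560 : ℕ) = 2 ^ 3 * 3 * 5 * 7 * 11 * 19 by norm_num] at hpJ
    have e : ∀ q : ℕ, q.Prime → p ∣ q → p = q := fun q hq hd => (Nat.prime_dvd_prime_iff_eq hp hq).1 hd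
    rcases hp.dvd_mul.1 hpJ with h | h
    · rcases hp.dvd_mul.1 h with h | h
      · rcases hp.dvd_mul.1 h with h | h
        · rcases hp.dvd_mul.1 h with h | h
          · rcases hp.dvd_mul.1 h with h | h
            · exact Or.inl (e 2 Nat.prime_two (hp.dvd_of_dvd_pow h))
            · exact Or.inr (Or.inl (e 3 Nat.prime_three h))
          · exact Or.inr (Or.inr (Or.inl (e 5 Nat.prime_five h)))
        · exact Or.inr (Or.inr (Or.inr (Or.inl (e 7 (by norm_num) h))))
      · exact Or.inr (Or.inr (Or.inr (Or.inr (Or.inl (e 11 (by norm_num) h)))))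
    · exact Or.inr (Or.inr (Or.inr (Or.inr (Or.inr (e 19 (by norm_num) h)))))
  rcases hmem with rfl | rfl | rfl | rfl | rfl | rfl
  · obtain ⟨g, hg⟩ := pow_eq_card_sylow twoSub (k := 3) (by rw [card_twoSub]; rfl)
      (hfacs 2 Nat.prime_two 3 (by norm_num) (by norm_num)) P
    obtain ⟨i, hi⟩ := hg _ hxP
    change wordJ (twoWord i) = _ at hi
    have hmemN : wordJ (twoWord i) ∈ N := by rw [hi]; exact hN.conj_mem _ x.2 g
    have hne : i ≠ 0 := by
      rintro rfl
      rw [wordJ_eq two_zero, wordJ_nil, eq_comm, conj_eq_one_iff] at hi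
      rw [hi, orderOf_one] at hxo
      exact absurd hxo (by norm_num)
    fin_cases i
    · exact absurd rfl hne
    · exact eq_top_of_cert hN hmemN cert5
    · exact eq_top_of_cert hN hmemN cert6
    · exact eq_top_of_cert hN hmemN cert7
    · exact eq_top_of_cert hN hmemN cert8
    · exact eq_top_of_cert hN hmemN cert9
    · exact eq_top_of_cert hN hmemN cert10
    · exact eq_top_of_cert hN hmemN cert11
  · exact odd _ _ _ order_three (hfacs 3 hp 1 (by norm_num) (by norm_num)) cert0
  · exact odd _ _ _ order_five (hfacs 5 hp 1 (by norm_num) (by norm_num)) cert1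
  · exact odd _ _ _ order_seven (hfacs 7 hp 1 (by norm_num) (by norm_num)) cert2
  · exact odd _ _ _ order_eleven (hfacs 11 hp 1 (by norm_num) (by norm_num)) cert3
  · exact odd _ _ _ order_nineteen (hfacs 19 hp 1 (by norm_num) (by norm_num)) cert4

end Cfsg.Agent.Lib.JankoOne
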