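import Cfsg.Agent.Lib.Compute.Perm
import Mathlib.LinearAlgebra.Matrix.GeneralLinearGroup.Defs
import Mathlib.Data.ZMod.Basic

/-!
# Packed 7 × 7 matrices over the integers modulo 11

A matrix is coded by seven rows of 70 bits, each made of seven slots of ten bits. A row of a product is
accumulated in the slots (at most `7 * 10 * 10 < 2 ^ 10`) and reduced afterwards.
-/

set_option autoImplicit false

namespace Cfsg.Agent.Lib.JankoOne

open Cfsg.Agent.Lib.Compute

/-- The group of invertible 7 × 7 matrices modulo 11. -/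
abbrev GL7 := Matrix.GeneralLinearGroup (Fin 7) (ZMod 11)

/-- Entry `(i, j)`, with zero outside the range. -/
def entN (M : Matrix (Fin 7) (Fin 7) (ZMod 11)) (i j : ℕ) : ℕ :=
  if h : i < 7 ∧ j < 7 then (M ⟨i, h.1⟩ ⟨j, h.2⟩).val else 0

/-- The code of a matrix. -/
noncomputable def encM (M : Matrix (Fin 7) (Fin 7) (ZMod 11)) : ℕ :=
  packP 70 (fun i => packP 10 (fun j => entN M i j) 7) 7

/-- Coefficient `k` of row `i`. -/
noncomputable def coefC (ra k : ℕ) : ℕ := getP 10 ra k

/-- The unreduced row `ra * b`. -/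
noncomputable def linC (b ra : ℕ) : ℕ :=
  Nat.add (Nat.mul (coefC ra 0) (getP 70 b 0)) <|
  Nat.add (Nat.mul (coefC ra 1) (getP 70 b 1)) <|
  Nat.add (Nat.mul (coefC ra 2) (getP 70 b 2)) <|
  Nat.add (Nat.mul (coefC ra 3) (getP 70 b 3)) <|
  Nat.add (Nat.mul (coefC ra 4) (getP 70 b 4)) <|
  Nat.add (Nat.mul (coefC ra 5) (getP 70 b 5)) (Nat.mul (coefC ra 6) (getP 70 b 6))

/-- Reduce all slots of a row. -/
noncomputable def normC (r : ℕ) : ℕ := packP 10 (fun j => Nat.mod (getP 10 r j) 11) 7

/-- Product of packed matrices. -/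
noncomputable def mulC (a b : ℕ) : ℕ :=
  forceNat a fun a => forceNat b fun b =>
    packP 70 (fun i => forceNat (getP 70 a i) fun ra => forceNat (linC b ra) normC) 7

theorem mulC_eq (a b : ℕ) :
    mulC a b = packP 70 (fun i => normC (linC b (getP 70 a i))) 7 := by
  simp only [mulC, forceNat_eq]

theorem entN_lt (M : Matrix (Fin 7) (Fin 7) (ZMod 11)) (i j : ℕ) : entN M i j < 11 := by
  unfold entN
  split
  · exact ZMod.val_lt _
  · norm_num

theorem packP_add (w : ℕ) (f g : ℕ → ℕ) (n : ℕ) :
    packP w (fun j => f j + g j) n = packP w f n + packP w g n := by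
  induction n with
  | zero => rfl
  | succ n ih => rw [packP_succ, packP_succ, packP_succ, ih]; ring

theorem packP_smul (w c : ℕ) (f : ℕ → ℕ) (n : ℕ) :
    packP w (fun j => c * f j) n = c * packP w f n := by
  induction n with
  | zero => rfl
  | succ n ih => rw [packP_succ, packP_succ, ih]; ring

theorem row_lt (M : Matrix (Fin 7) (Fin 7) (ZMod 11)) (i : ℕ) :
    packP 10 (fun j => entN M i j) 7 < 2 ^ 70 :=
  packP_lt fun j _ => (entN_lt M i j).trans (by norm_num)

theorem getP_encM (M : Matrix (Fin 7) (Fin 7) (ZMod 11)) {i : ℕ} (hi : i < 7) :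
    getP 70 (encM M) i = packP 10 (fun j => entN M i j) 7 :=
  getP_packP (fun k _ => row_lt M k) hi

theorem coefC_row (M : Matrix (Fin 7) (Fin 7) (ZMod 11)) (i : ℕ) {k : ℕ} (hk : k < 7) :
    coefC (packP 10 (fun j => entN M i j) 7) k = entN M i k :=
  getP_packP (fun j _ => (entN_lt M i j).trans (by norm_num)) hk

theorem mulC_encM (A B : Matrix (Fin 7) (Fin 7) (ZMod 11)) :
    mulC (encM A) (encM B) = encM (A * B) := by
  rw [mulC_eq]
  refine packP_congr fun i hi => ?_
  rw [getP_encM A hi]
  have hlin : linC (encM B) (packP 10 (fun j => entN A i j) 7) =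
      packP 10 (fun j => ∑ k : Fin 7, entN A i k * entN B k j) 7 := by
    simp only [linC, coefC_row A i (show 0 < 7 by norm_num), coefC_row A i (show 1 < 7 by norm_num),
      coefC_row A i (show 2 < 7 by norm_num), coefC_row A i (show 3 < 7 by norm_num),
      coefC_row A i (show 4 < 7 by norm_num), coefC_row A i (show 5 < 7 by norm_num),
      coefC_row A i (show 6 < 7 by norm_num), getP_encM B (show 0 < 7 by norm_num),
      getP_encM B (show 1 < 7 by norm_num), getP_encM B (show 2 < 7 by norm_num),
      getP_encM B (show 3 < 7 by norm_num), getP_encM B (show 4 < 7 by norm_num),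
      getP_encM B (show 5 < 7 by norm_num), getP_encM B (show 6 < 7 by norm_num),
      Nat.add_eq, Nat.mul_eq, ← packP_smul, ← packP_add]
    refine packP_congr fun j _ => ?_
    simp only [Fin.sum_univ_seven, add_assoc]
    rfl
  rw [hlin, normC]
  refine packP_congr fun j hj => ?_
  show (getP 10 _ j) % 11 = _
  rw [getP_packP ?_ hj]
  · simp only [entN]
    rw [dif_pos ⟨hi, hj⟩, Matrix.mul_apply]
    rw [← ZMod.val_natCast]
    congr 1
    push_cast
    refine Finset.sum_congr rfl fun k _ => ?_
    rw [dif_pos ⟨hi, k.isLt⟩, dif_pos ⟨k.isLt, hj⟩, ZMod.natCast_zmod_val, ZMod.natCast_zmod_val]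
  · intro j _
    calc ∑ k : Fin 7, entN A i k * entN B k j ≤ ∑ _k : Fin 7, 10 * 10 :=
          Finset.sum_le_sum fun k _ =>
            Nat.mul_le_mul (Nat.le_of_lt_succ (entN_lt A i k)) (Nat.le_of_lt_succ (entN_lt B k j))
      _ < 2 ^ 10 := by norm_num

theorem encM_injective : Function.Injective encM := by
  intro A B h
  ext i j
  have h1 := congrArg (fun c => getP 70 c i) h
  simp only [getP_encM _ i.isLt] at h1
  have h2 := congrArg (fun c => coefC c j) h1
  rw [coefC_row A i j.isLt, coefC_row B i j.isLt] at h2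
  simp only [entN, dif_pos (And.intro i.isLt j.isLt), Fin.eta] at h2
  exact ZMod.val_injective 11 h2

/-- The code of a group element. -/
noncomputable def encG (g : GL7) : ℕ := encM (g : Matrix (Fin 7) (Fin 7) (ZMod 11))

/-- The code of the identity. -/
noncomputable def oneC : ℕ := encM 1

theorem encG_injective : Function.Injective encG := fun g h e => Units.ext (encM_injective e)

theorem mulC_encG (g h : GL7) : mulC (encG g) (encG h) = encG (g * h) := by
  rw [encG, encG, mulC_encM, encG, Units.val_mul]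

theorem encG_one : encG 1 = oneC := by rw [encG, Units.val_one, oneC]

end Cfsg.Agent.Lib.JankoOne
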