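import Cfsg.Agent.Lib.JankoOne.Code
import Cfsg.Agent.Lib.JankoOne.Data
import Cfsg.Prelude.Def_Spor_J1
import Mathlib.GroupTheory.OrderOfElement

/-!
# The element orders of the first Janko group

The group generated by the two matrices is contained in the union of 266 cosets of a subgroup of order
660 (five double cosets); every element is therefore conjugate to `d * h` for one of five elements `d`
and `h` in that subgroup, and the orders of these 3300 products are checked by the kernel.
-/

set_option autoImplicit false

namespace Cfsg.Agent.Lib.JankoOne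

open Cfsg.Agent.Lib.Compute

/-- A word in the generators (`true` stands for `jankoY`). -/
def wordG : List Bool → GL7
  | [] => 1
  | b :: w => (bif b then Cfsg.Spor.jankoY else Cfsg.Spor.jankoX) * wordG w

/-- The code of a word. -/
noncomputable def wordC : List Bool → ℕ
  | [] => oneC
  | b :: w => mulC (bif b then genY else genX) (wordC w)

theorem encG_jankoX : encG Cfsg.Spor.jankoX = genX :=
  Nat.eq_of_beq_eq_true (show Nat.beq (encM Cfsg.jankoMatrixX) genX = true by decide +kernel)

theorem encG_jankoY : encG Cfsg.Spor.jankoY = genY :=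
  Nat.eq_of_beq_eq_true (show Nat.beq (encM Cfsg.jankoMatrixY) genY = true by decide +kernel)

theorem encG_wordG : ∀ w : List Bool, encG (wordG w) = wordC w
  | [] => encG_one
  | b :: w => by
    rw [wordG, wordC, ← encG_wordG w, ← mulC_encG]
    cases b <;> simp [encG_jankoX, encG_jankoY]

theorem wordG_mem : ∀ w : List Bool, wordG w ∈ Cfsg.Spor.J1
  | [] => one_mem _
  | b :: w => mul_mem (by cases b <;> exact Subgroup.subset_closure (by simp)) (wordG_mem w)

/-- Word of the first generator of the subgroup of order 660. -/
def wordA : List Bool :=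
  [true, false, false, true, true, true, true, false, false, true, true, false, true, true, false, false]

/-- Word of the second generator of the subgroup of order 660. -/
def wordB : List Bool :=
  [false, true, true, false, true, true, false, false, false, true, true, true, false, true, true, false, false]

/-- The double coset representatives. -/
def wordD (k : ℕ) : List Bool :=
  [[], [false], [true, false, false], [false, true, false], [true, true, false, false]].getD k []

theorem wordC_A : wordC wordA = subA :=
  Nat.eq_of_beq_eq_true (show Nat.beq (wordC wordA) subA = true by decide +kernel)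

theorem wordC_B : wordC wordB = subB :=
  Nat.eq_of_beq_eq_true (show Nat.beq (wordC wordB) subB = true by decide +kernel)

/-- First component of a packed pair. -/
noncomputable def fstP (t : ℕ) : ℕ := Nat.div t 1024

/-- Second component of a packed pair. -/
noncomputable def sndP (t : ℕ) : ℕ := Nat.mod t 1024

/-- A generator of the subgroup by index. -/
noncomputable def subGen (t : ℕ) : ℕ := Bool.rec (motive := fun _ => ℕ) subB subA (Nat.beq t 0)

/-- The breadth first tree of the subgroup. -/
noncomputable def subTreeRow (i : ℕ) : Bool :=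
  bif Nat.beq i 0 then Nat.beq (subList.get i) oneC
  else Nat.blt (sndP (subTree.get i)) i &&
    Nat.beq (subList.get i) (mulC (subGen (fstP (subTree.get i))) (subList.get (sndP (subTree.get i))))

/-- The subgroup is closed under its generators. -/
noncomputable def subStepRow (i : ℕ) : Bool :=
  Nat.blt (fstP (subStep.get i)) 660 && Nat.blt (sndP (subStep.get i)) 660 &&
    Nat.beq (mulC subA (subList.get i)) (subList.get (fstP (subStep.get i))) &&
    Nat.beq (mulC subB (subList.get i)) (subList.get (sndP (subStep.get i)))

/-- Each representative lies in a known double coset. -/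
noncomputable def repTreeRow (i : ℕ) : Bool :=
  bif Nat.beq (fstP (repTree.get i)) 2 then
    Nat.blt (sndP (repTree.get i)) 5 && Nat.beq (repList.get i) (dblList.get (sndP (repTree.get i)))
  else Nat.blt (sndP (repTree.get i)) i &&
    Nat.beq (repList.get i) (mulC (subGen (fstP (repTree.get i))) (repList.get (sndP (repTree.get i))))

/-- The cosets are permuted by the generators. -/
noncomputable def repStepRow (g : ℕ) (T : Tab) (i : ℕ) : Bool :=
  Nat.blt (fstP (T.get i)) 266 && Nat.blt (sndP (T.get i)) 660 &&
    Nat.beq (mulC g (repList.get i)) (mulC (repList.get (fstP (T.get i))) (subList.get (sndP (T.get i))))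

/-- The double coset representatives are the words. -/
noncomputable def dblRow (k : ℕ) : Bool := Nat.beq (wordC (wordD k)) (dblList.get k)

/-- The six exponents. -/
def expOf (e : ℕ) : ℕ := [6, 7, 10, 11, 15, 19].getD e 0

/-- The power of a code by one of the six exponents. -/
noncomputable def powE (e g : ℕ) : ℕ :=
  forceNat g fun g =>
  forceNat (mulC g g) fun g2 =>
  forceNat (mulC g2 g) fun g3 =>
  bif Nat.beq e 0 then mulC g3 g3
  else forceNat (mulC g2 g3) fun g5 =>
  bif Nat.beq e 1 then mulC g5 g2
  else forceNat (mulC g5 g5) fun g10 =>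
  bif Nat.beq e 2 then g10
  else bif Nat.beq e 3 then mulC g10 g
  else forceNat (mulC g10 g5) fun g15 =>
  bif Nat.beq e 4 then g15
  else mulC g15 (mulC g2 g2)

/-- The order of `d k * h i` divides the listed exponent. -/
noncomputable def orderRow (k : ℕ) (T : Tab) (i : ℕ) : Bool :=
  Nat.blt (T.get i) 6 &&
    Nat.beq (forceNat (mulC (dblList.get k) (subList.get i)) (powE (T.get i))) oneC

theorem subTree_ok : (List.range 660).all subTreeRow = true := by decide +kernel

theorem subStep_ok : (List.range 660).all subStepRow = true := by decide +kernel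

theorem repTree_ok : (List.range 266).all repTreeRow = true := by decide +kernel

theorem repStepX_ok : (List.range 266).all (repStepRow genX repStepX) = true := by decide +kernel

theorem repStepY_ok : (List.range 266).all (repStepRow genY repStepY) = true := by decide +kernel

theorem repBase_ok : Nat.beq (repList.get 0) oneC = true := by decide +kernel

theorem dbl_ok : (List.range 5).all dblRow = true := by decide +kernel

theorem order0_ok : (List.range 660).all (orderRow 0 expList0) = true := by decide +kernel

theorem order1_ok : (List.range 660).all (orderRow 1 expList1) = true := by decide +kernel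

theorem order2_ok : (List.range 660).all (orderRow 2 expList2) = true := by decide +kernel

theorem order3_ok : (List.range 660).all (orderRow 3 expList3) = true := by decide +kernel

theorem order4_ok : (List.range 660).all (orderRow 4 expList4) = true := by decide +kernel

attribute [local irreducible] mulC Tab.get encG encM wordC powE

theorem of_range_all {n : ℕ} {p : ℕ → Bool} (h : (List.range n).all p = true) {i : ℕ} (hi : i < n) :
    p i = true :=
  List.all_eq_true.1 h i (List.mem_range.2 hi)

theorem beq_false_of_ne {a b : ℕ} (h : a ≠ b) : Nat.beq a b = false :=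
  Bool.eq_false_iff.2 fun e => h (Nat.eq_of_beq_eq_true e)

theorem lt_of_blt {a b : ℕ} (h : Nat.blt a b = true) : a < b := by
  simpa [Nat.blt_eq] using h

/-- The element coded by a subgroup index. -/
def IsSub (h : GL7) : Prop := ∃ i < 660, encG h = subList.get i

theorem exists_subGen (t : ℕ) : ∃ g, encG g = subGen t ∧ ∀ h, IsSub h → IsSub (g * h) := by
  by_cases ht : t = 0
  · refine ⟨wordG wordA, ?_, ?_⟩
    · rw [encG_wordG, wordC_A, ht]; rfl
    · rintro h ⟨i, hi, hh⟩
      have hr := of_range_all subStep_ok hi
      simp only [subStepRow, Bool.and_eq_true] at hr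
      refine ⟨_, lt_of_blt hr.1.1.1, ?_⟩
      rw [← mulC_encG, encG_wordG, wordC_A, hh]
      exact Nat.eq_of_beq_eq_true hr.1.2
  · refine ⟨wordG wordB, ?_, ?_⟩
    · rw [encG_wordG, wordC_B, subGen, beq_false_of_ne ht]
    · rintro h ⟨i, hi, hh⟩
      have hr := of_range_all subStep_ok hi
      simp only [subStepRow, Bool.and_eq_true] at hr
      refine ⟨_, lt_of_blt hr.1.1.2, ?_⟩
      rw [← mulC_encG, encG_wordG, wordC_B, hh]
      exact Nat.eq_of_beq_eq_true hr.2

theorem isSub_one : IsSub 1 := by
  refine ⟨0, by norm_num, ?_⟩
  have h : subTreeRow 0 = true := of_range_all subTree_ok (by norm_num)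
  simp only [subTreeRow, Nat.beq_refl, cond_true] at h
  rw [encG_one, Nat.eq_of_beq_eq_true h]

theorem sub_mul : ∀ i < 660, ∃ g, encG g = subList.get i ∧ ∀ h, IsSub h → IsSub (g * h) := by
  intro i
  induction i using Nat.strong_induction_on with
  | _ i ih =>
    intro hi
    have hr := of_range_all subTree_ok hi
    by_cases h0 : i = 0
    · subst h0
      simp only [subTreeRow, Nat.beq_refl, cond_true] at hr
      exact ⟨1, by rw [encG_one, Nat.eq_of_beq_eq_true hr], fun h hh => by rwa [one_mul]⟩
    · rw [subTreeRow, beq_false_of_ne h0, cond_false, Bool.and_eq_true] at hr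
      have hp := lt_of_blt hr.1
      obtain ⟨g, hg, hg'⟩ := exists_subGen (fstP (subTree.get i))
      obtain ⟨u, hu, hu'⟩ := ih _ hp (by omega)
      refine ⟨g * u, ?_, fun h hh => ?_⟩
      · rw [← mulC_encG, hg, hu, Nat.eq_of_beq_eq_true hr.2]
      · rw [mul_assoc]; exact hg' _ (hu' h hh)

theorem IsSub.mul {g h : GL7} (hg : IsSub g) (hh : IsSub h) : IsSub (g * h) := by
  obtain ⟨i, hi, hgi⟩ := hg
  obtain ⟨g', hg', hmul⟩ := sub_mul i hi
  rw [encG_injective (hgi.trans hg'.symm)]
  exact hmul h hh

theorem rep_dbl : ∀ i < 266, ∃ w k, IsSub w ∧ k < 5 ∧ encG (w * wordG (wordD k)) = repList.get i := by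
  intro i
  induction i using Nat.strong_induction_on with
  | _ i ih =>
    intro hi
    have hr := of_range_all repTree_ok hi
    by_cases h2 : fstP (repTree.get i) = 2
    · rw [repTreeRow, h2, Nat.beq_refl, cond_true, Bool.and_eq_true] at hr
      refine ⟨1, _, isSub_one, lt_of_blt hr.1, ?_⟩
      rw [one_mul, encG_wordG, Nat.eq_of_beq_eq_true (of_range_all dbl_ok (lt_of_blt hr.1)),
        Nat.eq_of_beq_eq_true hr.2]
    · rw [repTreeRow, beq_false_of_ne h2, cond_false, Bool.and_eq_true] at hr
      obtain ⟨g, hg, hg'⟩ := exists_subGen (fstP (repTree.get i))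
      obtain ⟨w, k, hw, hk, hwk⟩ := ih _ (lt_of_blt hr.1) (by have := lt_of_blt hr.1; omega)
      refine ⟨g * w, k, hg' w hw, hk, ?_⟩
      rw [mul_assoc, ← mulC_encG, hg, hwk, Nat.eq_of_beq_eq_true hr.2]

/-- The union of the cosets. -/
def InCosets (g : GL7) : Prop := ∃ i < 266, ∃ r h, encG r = repList.get i ∧ IsSub h ∧ g = r * h

theorem inCosets_gen {x : GL7} {c : ℕ} {T : Tab} (hx : encG x = c)
    (hT : (List.range 266).all (repStepRow c T) = true) {g : GL7} (hg : InCosets g) :
    InCosets (x * g) := by
  obtain ⟨i, hi, r, h, hr, hh, rfl⟩ := hg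
  have hrow := of_range_all hT hi
  simp only [repStepRow, Bool.and_eq_true] at hrow
  have hj := lt_of_blt hrow.1.1
  have hk := lt_of_blt hrow.1.2
  obtain ⟨w, k, -, -, hs⟩ := rep_dbl _ hj
  obtain ⟨u, hu, humul⟩ := sub_mul _ hk
  refine ⟨_, hj, w * wordG (wordD k), u * h, hs, humul h hh, ?_⟩
  have key : x * r = w * wordG (wordD k) * u := by
    apply encG_injective
    rw [← mulC_encG, ← mulC_encG, hx, hr, hs, hu]
    exact Nat.eq_of_beq_eq_true hrow.2
  rw [← mul_assoc, key, mul_assoc]

theorem inCosets_of_mem {g : GL7} (hg : g ∈ Cfsg.Spor.J1) : InCosets g := by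
  rw [Cfsg.Spor.J1, ← Subgroup.mem_toSubmonoid, Subgroup.closure_toSubmonoid_of_finite] at hg
  induction hg using Submonoid.closure_induction_left with
  | one =>
    exact ⟨0, by norm_num, 1, 1, by rw [encG_one, Nat.eq_of_beq_eq_true repBase_ok], isSub_one,
      (mul_one 1).symm⟩
  | mul_left s hs y _ ih =>
    rcases hs with rfl | rfl
    · exact inCosets_gen encG_jankoX repStepX_ok ih
    · exact inCosets_gen encG_jankoY repStepY_ok ih

theorem powE_encG (g : GL7) {e : ℕ} (he : e < 6) : powE e (encG g) = encG (g ^ expOf e) := by
  have key : ∀ a b : GL7, a = b → encG a = encG b := fun a b h => by rw [h]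
  unfold powE
  simp only [forceNat_eq, mulC_encG]
  rcases e with _ | _ | _ | _ | _ | _ | e
  all_goals first
    | omega
    | (simp only [Nat.beq_refl, cond_true, cond_false, Nat.reduceAdd, beq_false_of_ne, ne_eq,
          OfNat.ofNat_ne_zero, OfNat.ofNat_ne_one, OfNat.one_ne_ofNat, one_ne_zero, Nat.succ_ne_self,
          not_false_eq_true, Nat.reduceEqDiff]
       exact key _ _ (by simp [expOf, pow_succ, mul_assoc]))

theorem dbl_sub_pow {k : ℕ} (hk : k < 5) {h : GL7} (hh : IsSub h) :
    ∃ e < 6, (wordG (wordD k) * h) ^ expOf e = 1 := by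
  obtain ⟨i, hi, hhi⟩ := hh
  have hd : encG (wordG (wordD k)) = dblList.get k := by
    rw [encG_wordG]; exact Nat.eq_of_beq_eq_true (of_range_all dbl_ok hk)
  have key : ∀ T : Tab, (List.range 660).all (orderRow k T) = true →
      ∃ e < 6, (wordG (wordD k) * h) ^ expOf e = 1 := by
    intro T hT
    have hr := of_range_all hT hi
    simp only [orderRow, forceNat_eq, Bool.and_eq_true] at hr
    refine ⟨_, lt_of_blt hr.1, encG_injective ?_⟩
    rw [← powE_encG _ (lt_of_blt hr.1), ← mulC_encG, hd, hhi, encG_one]
    exact Nat.eq_of_beq_eq_true hr.2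
  interval_cases k
  · exact key _ order0_ok
  · exact key _ order1_ok
  · exact key _ order2_ok
  · exact key _ order3_ok
  · exact key _ order4_ok

/-- Every element order of the first Janko group divides 6, 7, 10, 11, 15 or 19. -/
theorem exists_pow_eq_one {g : GL7} (hg : g ∈ Cfsg.Spor.J1) :
    ∃ n ∈ [6, 7, 10, 11, 15, 19], orderOf g ∣ n := by
  obtain ⟨i, hi, r, h, hr, hh, rfl⟩ := inCosets_of_mem hg
  obtain ⟨w, k, hw, hk, hwk⟩ := rep_dbl i hi
  obtain rfl : r = w * wordG (wordD k) := encG_injective (hr.trans hwk.symm)
  obtain ⟨e, he, hpow⟩ := dbl_sub_pow hk (hh.mul hw)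
  refine ⟨expOf e, ?_, orderOf_dvd_of_pow_eq_one ?_⟩
  · interval_cases e <;> simp [expOf]
  · have hconj : SemiconjBy w (wordG (wordD k) * (h * w)) (w * wordG (wordD k) * h) := by
      simp only [SemiconjBy, mul_assoc]
    have := hconj.pow_right (expOf e)
    rw [hpow, SemiconjBy, mul_one] at this
    exact mul_eq_right.1 this.symm

end Cfsg.Agent.Lib.JankoOne
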