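import Cfsg.Agent.Lib.JankoOne.Orders

/-! Conjugation certificates: normal closures of representatives of the prime order classes. -/

set_option autoImplicit false

namespace Cfsg.Agent.Lib.JankoOne

/-- Two conjugating words with their inverses. -/
structure ConjPairCert where
  u : List Bool
  u' : List Bool
  v : List Bool
  v' : List Bool

def repWord0 : List Bool := [true, false, true, false, true, false, false, false]

def certGenX0 : ConjPairCert :=
  ⟨[true, false, true, false],
   [true, true, true, true, false, true, false, true, true, true],
   [true, false, true, true, true, false, true, true, false, true, false],
   [false, true, true, true, false, false, true, false, true, true, false, true, true, true, false, true]⟩

def certGenY0 : ConjPairCert :=
  ⟨[false, false, true, false, false, false, false],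
   [false, false, false, true, true, true, true, false, false, false, false, false],
   [true, false, false, true, false, false, false, false, false, false, true, false, true],
   [true, true, true, false, false, false, true, false, true, true, false, true, true, true, true, false, false, false]⟩

def repWord1 : List Bool := [true]

def certGenX1 : ConjPairCert :=
  ⟨[true, true, true, true, false],
   [false, false, false, false, false, false, true],
   [false, false, false, true, true, true, true, false],
   [false, false, false, false, false, false, true, false, false, false, false]⟩

def certGenY1 : ConjPairCert :=
  ⟨[false, true, true, false],
   [false, false, false, false, false, false, true, true, true, false, false, false, false, false, false],
   [true, true, false, false, true, true, true, false, false, true, true, false, false, false, false],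
   [true, false, true, true, false, true, true, false, true, true, false, true, true, false, false, true, true]⟩

def repWord2 : List Bool := [false]

def certGenX2 : ConjPairCert :=
  ⟨[true],
   [true, true, true, true],
   [true, false, true, true, false, true, false, true, true, true, false, true, true, false, true, false, false, false, false, true],
   [false, true, true, true, false, true, true, true, false, true, false, true, true, false, true, false, false, false, true, true]⟩

def certGenY2 : ConjPairCert :=
  ⟨[false, true, true, true],
   [true, true, false, false, false, false, false, false],
   [true, false, false, true, true, false, false, false, false, true, false, true, true],
   [false, false, false, false, false, true, true, false, false, true, true, false, false, false, true, true, true, false]⟩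

def repWord3 : List Bool := [true, true, false]

def certGenX3 : ConjPairCert :=
  ⟨[true, true, true, false, true],
   [false, true, true, true, true, false, true, false, true],
   [false, false, true, true, false, false, false, false, true, false, false, true, false, true],
   [true, false, true, true, true, false, true, true, false, true, false, true, false, true, true, true, false, true, false]⟩

def certGenY3 : ConjPairCert :=
  ⟨[false, true, true, false, true, false],
   [true, true, true, true, false, true, false, true, true, false, false, false, false, false, false],
   [true, false, false, false, true, false, false, false, false, true, false, false, false, false],
   [false, true, true, true, true, false, false, false, false, true, false, true, false, true, true, true]⟩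

def repWord4 : List Bool := [true, false, false, false]

def certGenX4 : ConjPairCert :=
  ⟨[true, false, false],
   [false, false, false, false, false, true, true, true, true],
   [false, false, false, true, false, false],
   [true, true, true, false, false, false, true, false, false, true, true, true]⟩

def certGenY4 : ConjPairCert :=
  ⟨[false, false, true, true, false, false],
   [false, false, false, false, false, true, true, true, false, false, false, false, false],
   [false, true, false, false, false, false, true, false, true, true, true, false],
   [false, false, false, false, true, false, true, true, false, true, false, false, false, false, true, true, true, true, false]⟩

def repWord5 : List Bool := [true, true, true, true, false, true, false]

def certGenX5 : ConjPairCert :=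
  ⟨[true, true, true, false, false, false],
   [false, false, false, false, true, true],
   [false, false, false, true, true, true, false, false, false],
   [false, false, false, false, true, true, false, false, false, false]⟩

def certGenY5 : ConjPairCert :=
  ⟨[false, false, false],
   [false, false, false, false],
   [true, true, false, false, false],
   [false, false, false, false, true, true, true]⟩

def repWord6 : List Bool := [false, true, true, true, true, false, true]

def certGenX6 : ConjPairCert :=
  ⟨[true, true, true, false, false],
   [false, false, false, false, false, true, true],
   [false, false, false, true, true, true, false, false],
   [true, false, false, false, true, true, true, false, false, true]⟩

def certGenY6 : ConjPairCert :=
  ⟨[false, false],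
   [false, false, false, false, false],
   [true, true, false, false],
   [false, false, false, false, false, true, true, true]⟩

def repWord7 : List Bool := [false, true, true, true, true, false, false, true, false]

def certGenX7 : ConjPairCert :=
  ⟨[true, true, false, false, true],
   [true, true, true, true, false, false, false, false, false, true, true, true],
   [false, false, false, true, true, false, false, true],
   [true, true, true, true, false, false, false, false, false, true, true, true, false, false, false, false]⟩

def certGenY7 : ConjPairCert :=
  ⟨[false, false, true],
   [true, true, true, true, false, false, false, false, false],
   [true, true, false, false, true],
   [true, true, true, true, false, false, false, false, false, true, true, true]⟩

def repWord8 : List Bool := [true, true, true, true, false, false, true, false, false]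

def certGenX8 : ConjPairCert :=
  ⟨[true, true, false, true],
   [false, true, true, true, true, false, true, false, true, true],
   [false, false, false, true, true, false, true],
   [true, true, true, false, false, false, true, true, false, true, true, true, true]⟩

def certGenY8 : ConjPairCert :=
  ⟨[false, true],
   [true, true, true, true, false, false, false, false, false, false],
   [true, true, false, true],
   [false, true, true, true, true, false, true, false, true, true]⟩

def repWord9 : List Bool := [false, false, true, true, true, true, false, false, true]

def certGenX9 : ConjPairCert :=
  ⟨[true, true, false, false, false, true],
   [true, true, true, true, false, false, false, false, true, true, true],
   [false, false, false, true, true, false, false, false, true],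
   [false, false, true, true, true, false, true, false, true, true, true, false, false, true]⟩

def certGenY9 : ConjPairCert :=
  ⟨[false, false, false, false],
   [false, false, false],
   [true, false, false, false, true],
   [true, true, true, true, false, false, false, false, true, true, true, true]⟩

def repWord10 : List Bool := [false, true, true, true, true, false, false, false, true, false, false]

def certGenX10 : ConjPairCert :=
  ⟨[true, true, true],
   [true, true],
   [false, false, false, true, true, true],
   [true, true, false, false, false, false]⟩

def certGenY10 : ConjPairCert :=
  ⟨[],
   [],
   [true, true],
   [true, true, true]⟩

def repWord11 : List Bool := [true, true, true, true, false, false, false, true, false, false, false]

def certGenX11 : ConjPairCert :=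
  ⟨[true, true, true, false],
   [false, false, false, false, false, false, true, true],
   [false, false, false, true, true, true, false],
   [false, true, false, false, false, true, true, true, false, false, true]⟩

def certGenY11 : ConjPairCert :=
  ⟨[false],
   [false, false, false, false, false, false],
   [true, true, false],
   [false, false, false, false, false, false, true, true, true]⟩

def elemTwoWords : List (List Bool) :=
  [[],
   [true, true, true, true, false, true, false],
   [false, true, true, true, true, false, true],
   [false, true, true, true, true, false, false, true, false],
   [true, true, true, true, false, false, true, false, false],
   [false, false, true, true, true, true, false, false, true],
   [false, true, true, true, true, false, false, false, true, false, false],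
   [true, true, true, true, false, false, false, true, false, false, false]]

end Cfsg.Agent.Lib.JankoOne
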